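import Cfsg.Agent.Lib.PLocal.Offender.Structure
import Cfsg.Agent.S0250

/-! A group generated by offenders at the prime two is a power of `S₃`. -/

set_option autoImplicit false
set_option linter.all false

namespace Cfsg.Agent.GroupStructure3.ThompsonS3

open Subgroup Cfsg Cfsg.Agent.PLocal Cfsg.Agent.PLocal.Offender

variable {G : Type*} [Group G] [Finite G] {V H F : Subgroup G}

theorem exists_pi_equiv [Fact (Nat.Prime 2)] (s : Setup 2 V H F)
    (hgen : H = ⨆ A : {A : Subgroup G // A ≤ H ∧ IsBestOffenderOn 2 V A}, (A : Subgroup G))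
    (hH : H ≠ ⊥) : ∃ n, 1 ≤ n ∧ Nonempty (H ≃* (Fin n → Equiv.Perm (Fin 3))) := by
  classical
  let ι : Set (Subgroup G) := {E | ∃ A, Point 2 V H A ∧ E = factorGroup F A}
  haveI : Fintype ι := Fintype.ofFinite ι
  let e : Fin (Fintype.card ι) ≃ ι := (Fintype.equivFin ι).symm
  let E : Fin (Fintype.card ι) → Subgroup G := fun i => (e i).1
  have hE : ∀ i, ∃ A, Point 2 V H A ∧ E i = factorGroup F A := fun i => (e i).2
  have hne : ∀ i j, i ≠ j → ∀ A B, Point 2 V H A → Point 2 V H B → E i = factorGroup F A →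
      E j = factorGroup F B → ⁅V, factorGroup F A⁆ ≠ ⁅V, factorGroup F B⁆ := by
    intro i j hij A B hA hB hi hj h
    refine hij (e.injective (Subtype.ext ?_))
    show E i = E j
    rw [hi, hj, factor_eq_of_eq s hA hB h]
  have hcomm : Pairwise fun i j => ∀ x y : G, x ∈ E i → y ∈ E j → Commute x y := by
    intro i j hij x y hx hy
    obtain ⟨A, hA, hi⟩ := hE i
    obtain ⟨B, hB, hj⟩ := hE j
    have hc := le_centralizer_iff_commutator.mpr (commute_factors s hA hB (hne i j hij A B hA hB hi hj))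
    rw [hi] at hx
    rw [hj] at hy
    exact (hc hy) x hx
  have hind : iSupIndep E := by
    intro i
    rw [disjoint_iff, eq_bot_iff]
    obtain ⟨A, hA, hi⟩ := hE i
    have d := factor s hA
    refine le_trans (inf_le_inf (le_of_eq hi) (iSup₂_le fun j hj => ?_)) (le_of_eq d.faithful)
    obtain ⟨B, hB, hje⟩ := hE j
    rw [hje]
    exact le_centralizer_iff.mp ((separate s hA hB (hne i j (Ne.symm hj) A B hA hB hi hje)).2.trans inf_le_right)
  have hsup : ⨆ i, E i = H := by
    refine le_antisymm (iSup_le fun i => ?_) (le_of_points s hgen fun B hB => ?_)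
    · obtain ⟨A, hA, hi⟩ := hE i
      exact hi ▸ factorGroup_le s hA
    · refine le_trans (le_sup_right : B ≤ factorGroup F B) (le_iSup_of_le (e.symm ⟨factorGroup F B, B, hB, rfl⟩) ?_)
      simp only [E, Equiv.apply_symm_apply]
      rfl
  have hinj := Subgroup.injective_noncommPiCoprod_of_iSupIndep hind (hcomm := hcomm)
  have hiso : ∀ i, Nonempty (E i ≃* Equiv.Perm (Fin 3)) := by
    intro i
    obtain ⟨A, hA, hi⟩ := hE i
    obtain ⟨f⟩ := (factor s hA).iso
    obtain ⟨g⟩ := Cfsg.Agent.S0250.result (F := ZMod 2) (ZMod.card 2)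
    exact ⟨((MulEquiv.subgroupCongr hi).trans f).trans g⟩
  have f := hiso
  refine ⟨Fintype.card ι, Nat.one_le_iff_ne_zero.mpr fun h0 => hH ?_, ⟨?_⟩⟩
  · haveI : IsEmpty (Fin (Fintype.card ι)) := by rw [h0]; infer_instance
    rw [← hsup, iSup_of_empty]
  · exact ((MulEquiv.subgroupCongr ((Subgroup.noncommPiCoprod_range (hcomm := hcomm)).trans hsup).symm).trans
      (MonoidHom.ofInjective hinj).symm).trans (MulEquiv.piCongrRight fun i => (f i).some)

end Cfsg.Agent.GroupStructure3.ThompsonS3
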