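import Cfsg.Agent.Lib.PLocal.Offender.Section
import Cfsg.Agent.Lib.PLocal.SolvableSeparable
import Cfsg.Agent.Lib.Coprime.Commutator
import Cfsg.Agent.Lib.Hall.MinimalNormal
import Cfsg.Agent.Lib.Cores.Fitting

/-! With `F(X) = O₂(X)`: the core of `C(Z(T))` is the centralizer of the join of the `Ω₁(Z(S))`. -/

set_option autoImplicit false
set_option linter.all false

namespace Cfsg.Agent.GroupStructure3.ThompsonS3

open Subgroup Cfsg Cfsg.Agent.PLocal Cfsg.Agent.PLocal.Offender
open scoped commutatorElement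

variable {X : Type*} [Group X] [Finite X] [Group.IsSolvable X]

theorem pPrimeCore_eq_bot (hF : fittingSubgroup X = pCore 2 X) : pPrimeCore 2 X = ⊥ := by
  haveI : Fact (Nat.Prime 2) := ⟨Nat.prime_two⟩
  by_contra h
  obtain ⟨M, hMn, hMle, hM, hmin⟩ := Hall.exists_minimal_normal (pPrimeCore 2 X) h
  obtain ⟨r, hr, hrd, hrg, hre⟩ := Hall.minimal_normal_isElementaryAbelian hM hmin
  haveI := Fact.mk hr
  have hMF : M ≤ pCore 2 X := hF ▸ Cores.le_fittingSubgroup hrg.isNilpotent
  obtain ⟨k, hk⟩ := IsPGroup.iff_card.1 ((Cores.isPGroup_pCore (p := 2) (G := X)).to_le hMF)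
  exact hM (card_eq_one.mp (Nat.eq_one_of_dvd_coprimes
    ((Cores.coprime_card_pPrimeCore (p := 2) (G := X)).pow_right k) (card_dvd_of_le hMle) (hk ▸ dvd_rfl)))

/-- The centre of a Sylow subgroup, inside the group. -/
def zc (S : Sylow 2 X) : Subgroup X := (S : Subgroup X) ⊓ centralizer ((S : Subgroup X) : Set X)

theorem omega_le_zetaJoin (S : Sylow 2 X) : omegaOne 2 (zc S) ≤ zetaJoin 2 X :=
  le_iSup (fun T : Sylow 2 X => omegaOne 2 ((T : Subgroup X) ⊓ centralizer ((T : Subgroup X) : Set X))) S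

theorem zc_le_pCore (hF : fittingSubgroup X = pCore 2 X) (T : Sylow 2 X) : zc T ≤ pCore 2 X := by
  haveI : Fact (Nat.Prime 2) := ⟨Nat.prime_two⟩
  exact (inf_le_right.trans (centralizer_le (Cores.pCore_le_sylow T))).trans
    (PSolvable.centralizer_pCore_le (pPrimeCore_eq_bot hF)
      (PSolvable.subgroup (SolvableSeparable.isPSolvable_of_isSolvable 2 X) _))

theorem closure_abelian (hF : fittingSubgroup X = pCore 2 X) (T : Sylow 2 X) :
    IsMulCommutative (normalClosure (zc T : Set X)) := by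
  haveI : Fact (Nat.Prime 2) := ⟨Nat.prime_two⟩
  set V0 := normalClosure (zc T : Set X)
  have hVO : V0 ≤ pCore 2 X := normalClosure_le_normal (zc_le_pCore hF T)
  haveI hn : (centralizer (V0 : Set X)).Normal := inferInstance
  have h1 : (zc T : Subgroup X) ≤ centralizer (V0 : Set X) :=
    inf_le_right.trans (centralizer_le (hVO.trans (Cores.pCore_le_sylow T)))
  have h2 : V0 ≤ centralizer (V0 : Set X) := normalClosure_le_normal h1
  exact ⟨⟨fun a b => Subtype.ext ((h2 b.2) a a.2)⟩⟩

theorem normalCore_eq (hF : fittingSubgroup X = pCore 2 X) (T : Sylow 2 X) :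
    (centralizer (zc T : Set X)).normalCore = centralizer (zetaJoin 2 X : Set X) := by
  classical
  haveI h2 : Fact (Nat.Prime 2) := ⟨Nat.prime_two⟩
  set V0 := normalClosure (zc T : Set X) with hV0
  haveI := closure_abelian hF T
  have hZV : zc T ≤ V0 := subset_normalClosure
  have hcore : (centralizer (zc T : Set X)).normalCore = centralizer (V0 : Set X) := by
    refine le_antisymm ?_ (normal_le_normalCore.mpr (centralizer_le hZV))
    rw [le_centralizer_iff]
    exact normalClosure_le_normal (le_centralizer_iff.mp (normalCore_le _))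
  have hzV : zetaJoin 2 X ≤ V0 := iSup_le fun S => by
    refine (Omega.omegaOne_le _).trans fun x hx => ?_
    obtain ⟨g, hg⟩ := MulAction.exists_smul_eq X T S
    rw [← hg] at hx
    obtain ⟨⟨y, hy, hyx⟩, hxc⟩ := hx
    change g * y * g⁻¹ = x at hyx
    subst hyx
    refine (inferInstance : V0.Normal).conj_mem y (hZV ⟨hy, fun z hz => ?_⟩) g
    have := hxc (g * z * g⁻¹) ⟨z, hz, rfl⟩
    refine mul_left_cancel (a := g) (mul_right_cancel (b := g⁻¹) ?_)
    simpa [mul_assoc] using this
  refine le_antisymm (hcore.le.trans (centralizer_le hzV)) ?_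
  rw [hcore]
  set K := centralizer (zetaJoin 2 X : Set X)
  set C := centralizer (V0 : Set X) with hCdef
  have hCK : C ≤ K := centralizer_le hzV
  by_contra hKC
  set q := QuotientGroup.mk' C
  have hq := QuotientGroup.mk'_surjective C
  haveI : (K.map q).Normal := (inferInstance : K.Normal).map q hq
  have hKne : K.map q ≠ ⊥ := fun h => hKC (by
    rwa [Subgroup.map_eq_bot_iff, QuotientGroup.ker_mk'] at h)
  obtain ⟨Mb, hMn, hMle, hM, hmin⟩ := Hall.exists_minimal_normal (K.map q) hKne
  obtain ⟨r, hr, hrd, hrg, hre⟩ := Hall.minimal_normal_isElementaryAbelian hM hmin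
  haveI := Fact.mk hr
  set M := Mb.comap q with hMdef
  haveI : M.Normal := hMn.comap q
  have hCM : C ≤ M := (QuotientGroup.ker_mk' C).ge.trans (MonoidHom.ker_le_comap _ _)
  have hMK : M ≤ K := by
    refine (comap_mono hMle).trans ?_
    rw [comap_map_eq, QuotientGroup.ker_mk', sup_eq_left.mpr hCK]
  obtain ⟨k, hk⟩ := IsPGroup.iff_card.1 hrg
  have hidx : C.relIndex M = r ^ k := by
    have h := relIndex_ker q (K := M)
    rwa [QuotientGroup.ker_mk', hMdef, map_comap_eq_self_of_surjective hq, hk] at h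
  have hC_z : C ≤ centralizer (zc T : Set X) := centralizer_le hZV
  have hMz : M ≤ centralizer (zc T : Set X) := by
    by_cases hr2 : r = 2
    · subst hr2
      exact Omega.le_centralizer_of_relIndex hCM hidx T hC_z
        (fun t ht z hz => (hz.2 t ht.1).symm)
    obtain ⟨R⟩ : Nonempty (Sylow r X) := inferInstance
    refine Omega.le_centralizer_of_relIndex hCM hidx R hC_z ?_
    set RM := (R : Subgroup X) ⊓ M
    have hVp : IsPGroup 2 V0 := (Cores.isPGroup_pCore (p := 2) (G := X)).to_le
      (normalClosure_le_normal (zc_le_pCore hF T))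
    have hcop : (Nat.card RM).Coprime (Nat.card V0) := by
      obtain ⟨i, hi⟩ := IsPGroup.iff_card.1 (R.2.to_le (inf_le_left : RM ≤ (R : Subgroup X)))
      obtain ⟨j, hj⟩ := IsPGroup.iff_card.1 hVp
      rw [hi, hj]
      exact ((Nat.coprime_primes hr Nat.prime_two).2 hr2).pow i j
    have hn : RM ≤ normalizer (V0 : Set X) := by rw [normalizer_eq_top]; exact le_top
    have hD : ⁅V0, RM⁆ = ⁅V0, M⁆ := by
      refine le_antisymm (commutator_mono le_rfl inf_le_right) ?_
      have hsup : M ≤ C ⊔ RM := by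
        refine relIndex_eq_one.mp ?_
        have h1 : (C ⊔ RM).relIndex M ∣ r ^ k := hidx ▸ relIndex_dvd_of_le_left M le_sup_left
        have h2 : (C ⊔ RM).relIndex M ∣ ((R : Subgroup X) ⊓ M).relIndex M :=
          relIndex_dvd_of_le_left M le_sup_right
        exact Nat.eq_one_of_dvd_coprimes (Nat.Coprime.pow_left k
          (hr.coprime_iff_not_dvd.mpr (Omega.not_dvd_relIndex_inf R M))) h1 h2
      rw [commutator_le]
      intro v hv m hm
      obtain ⟨c, hc, u, hu, rfl⟩ := mem_sup_of_normal_left.1 (hsup hm)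
      have hdm : ⁅v, u⁆ ∈ V0 := by
        rw [commutatorElement_def, mul_assoc, mul_assoc]
        refine mul_mem hv ?_
        rw [← mul_assoc]
        exact (inferInstance : V0.Normal).conj_mem _ (inv_mem hv) u
      have : ⁅v, c * u⁆ = ⁅v, u⁆ := by
        have hcd : Commute c ⁅v, u⁆ := (hc _ hdm).symm
        have hcv : Commute c v := (hc v hv).symm
        calc ⁅v, c * u⁆ = ⁅v, c⁆ * (c * ⁅v, u⁆ * c⁻¹) := by simp only [commutatorElement_def]; group
          _ = ⁅v, u⁆ := by
            rw [commutatorElement_eq_one_iff_commute.mpr hcv.symm, hcd.eq, mul_inv_cancel_right, one_mul]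
      rw [this]
      exact commutator_mem_commutator hv hu
    have hdisj := Coprime.inf_centralizer_inf_commutator hn hcop
    intro m hm z hz
    obtain ⟨c, hc, d, hd, rfl⟩ := Coprime.exists_eq_centralizer_mul_commutator hn hcop
      (Or.inr (Coprime.isSolvable_of_isMulCommutative V0)) (hZV hz)
    suffices d = 1 by
      rw [this, mul_one]
      exact (hc.2 m hm).symm
    by_contra hd1
    -- `d` is fixed by `T`
    have hdV : d ∈ V0 := Coprime.commutator_le_of_le_normalizer hn hd
    have hdT : ∀ t ∈ (T : Subgroup X), t * d = d * t := by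
      intro t ht
      have hCn : (V0 ⊓ centralizer (RM : Set X)) = V0 ⊓ centralizer (M : Set X) := by
        refine le_antisymm (fun v hv => ⟨hv.1, ?_⟩) (inf_le_inf_left _ (centralizer_le inf_le_right))
        intro m hm
        have hle : M ≤ centralizer ({v} : Set X) := by
          refine le_trans ?_ (sup_le (fun c hc => mem_centralizer_singleton_iff.2 ((hc v hv.1).symm))
            (fun u hu => mem_centralizer_singleton_iff.2 (hv.2 u hu)) : C ⊔ RM ≤ centralizer ({v} : Set X))
          refine relIndex_eq_one.mp ?_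
          exact Nat.eq_one_of_dvd_coprimes (Nat.Coprime.pow_left k
            (hr.coprime_iff_not_dvd.mpr (Omega.not_dvd_relIndex_inf R M)))
            (hidx ▸ relIndex_dvd_of_le_left M le_sup_left) (relIndex_dvd_of_le_left M le_sup_right)
        exact mem_centralizer_singleton_iff.1 (hle hm)
      have hc' : t * c * t⁻¹ ∈ V0 ⊓ centralizer (RM : Set X) := by
        rw [hCn] at hc ⊢
        exact (inferInstance : (V0 ⊓ centralizer (M : Set X)).Normal).conj_mem c hc t
      have hd' : t * d * t⁻¹ ∈ ⁅V0, RM⁆ := by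
        rw [hD] at hd ⊢
        exact (inferInstance : (⁅V0, M⁆).Normal).conj_mem d hd t
      have heq : (t * c * t⁻¹) * (t * d * t⁻¹) = c * d := by
        rw [show (t * c * t⁻¹) * (t * d * t⁻¹) = t * (c * d) * t⁻¹ by group, hz.2 t ht,
          mul_inv_cancel_right]
      have h1 : (t * d * t⁻¹) * d⁻¹ = (t * c * t⁻¹)⁻¹ * c := by
        rw [mul_inv_eq_iff_eq_mul, mul_assoc ((t * c * t⁻¹)⁻¹), ← heq]; group
      have h2 : (t * d * t⁻¹) * d⁻¹ ∈ (V0 ⊓ centralizer (RM : Set X)) ⊓ ⁅V0, RM⁆ :=
        mem_inf.mpr ⟨by rw [h1]; exact mul_mem (inv_mem hc') hc, mul_mem hd' (inv_mem hd)⟩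
      rw [hdisj, mem_bot, mul_inv_eq_one, mul_inv_eq_iff_eq_mul] at h2
      exact h2
    have hdzc : d ∈ zc T :=
      ⟨Cores.pCore_le_sylow T (normalClosure_le_normal (zc_le_pCore hF T) hdV), hdT⟩
    obtain ⟨e, he⟩ := hVp ⟨d, hdV⟩
    have he' : d ^ 2 ^ e = 1 := congrArg Subtype.val he
    have hex : ∃ i, d ^ 2 ^ i = 1 := ⟨e, he'⟩
    obtain ⟨i, hi⟩ : ∃ i, Nat.find hex = i + 1 := ⟨Nat.find hex - 1, by
      have h0 : Nat.find hex ≠ 0 := fun h => hd1 (by simpa [h] using Nat.find_spec hex)
      omega⟩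
    set y := d ^ 2 ^ i
    have hy1 : y ≠ 1 := Nat.find_min hex (by omega)
    have hy2 : y ^ 2 = 1 := by
      rw [← pow_mul, ← pow_succ, ← hi]; exact Nat.find_spec hex
    have hyz : y ∈ zetaJoin 2 X := omega_le_zetaJoin T (Omega.mem_omegaOne (pow_mem hdzc _) hy2)
    have : y ∈ (V0 ⊓ centralizer (RM : Set X)) ⊓ ⁅V0, RM⁆ :=
      ⟨⟨pow_mem hdV _, fun u hu => ((hMK hu.2) y hyz).symm⟩, pow_mem hd _⟩
    rw [hdisj] at this
    exact hy1 (mem_bot.1 this)
  have hMC : M ≤ C := (normal_le_normalCore.mpr hMz).trans hcore.le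
  refine hM ?_
  rw [eq_bot_iff, ← map_comap_eq_self_of_surjective hq Mb, ← hMdef]
  refine (map_mono hMC).trans ?_
  rw [QuotientGroup.map_mk'_self]

end Cfsg.Agent.GroupStructure3.ThompsonS3
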