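import Cfsg.Agent.GroupStructure3.ThompsonS3.Weight
import Cfsg.Agent.GroupStructure3.ThompsonS3.Decomp
import Cfsg.Agent.GroupStructure3.ThompsonS3.Kernel
import Cfsg.Agent.Lib.CharP.WeakClosureJ

/-! Thompson factorization for a solvable group with `F(X) = O₂(X)`. -/

set_option autoImplicit false
set_option linter.all false

namespace Cfsg.Agent.GroupStructure3.ThompsonS3

open Subgroup Cfsg Cfsg.Agent.PLocal Cfsg.Agent.PLocal.Offender
open Cfsg.Agent

universe u

variable {X : Type u} [Group X] [Finite X] [Group.IsSolvable X]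

/-- Abelian of largest order in `S`. -/
def IsMaxAb (S A : Subgroup X) : Prop :=
  A ≤ S ∧ (∀ x ∈ A, ∀ y ∈ A, x * y = y * x) ∧
    ∀ B : Subgroup X, B ≤ S → (∀ x ∈ B, ∀ y ∈ B, x * y = y * x) → Nat.card B ≤ Nat.card A

theorem IsMaxAb.conj {S A : Subgroup X} (h : IsMaxAb S A) (g : X) :
    IsMaxAb (S.map (MulAut.conj g).toMonoidHom) (A.map (MulAut.conj g).toMonoidHom) := by
  refine ⟨map_mono h.1, ?_, fun B hB hBc => ?_⟩
  · rintro _ ⟨x, hx, rfl⟩ _ ⟨y, hy, rfl⟩
    rw [← map_mul, ← map_mul, h.2.1 x hx y hy]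
  · set e := (MulAut.conj g).toMonoidHom with he
    have hinj : Function.Injective e := (MulAut.conj g).injective
    have hB' : B = (B.comap e).map e :=
      (map_comap_eq_self_of_surjective (MulAut.conj g).surjective B).symm
    rw [hB', card_map_of_injective hinj, card_map_of_injective hinj]
    refine h.2.2 _ ?_ fun x hx y hy => hinj (by rw [map_mul, map_mul]; exact hBc _ hx _ hy)
    exact (comap_mono hB).trans (comap_map_eq_self_of_injective hinj S).le

/-- The image of an abelian subgroup of largest order is a best offender. -/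
theorem offender_of_isMaxAb (hF : fittingSubgroup X = pCore 2 X) (S : Sylow 2 X) {A : Subgroup X}
    (hA : IsMaxAb (S : Subgroup X) A) {Y : Subgroup X} [Y.Normal] (hAY : A ≤ Y) :
    IsBestOffenderOn 2 (Sec.base (zetaJoin 2 X)) (A.map (Sec.img (zetaJoin 2 X))) := by
  haveI : Fact (Nat.Prime 2) := ⟨Nat.prime_two⟩
  have hsep := SolvableSeparable.isPSolvable_of_isSolvable 2 X
  have hZ : IsElementaryAbelian 2 (zetaJoin 2 X) := zetaJoin_elem hsep (pPrimeCore_eq_bot hF)
  set Z := zetaJoin 2 X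
  set f := Sec.img Z with hf
  have s := Sec.setup (p := 2) Z hZ (J := Y) hsep pCore_quotient_zetaJoin
  obtain ⟨hAS, hAc, hmax⟩ := hA
  have hZS : Z ≤ (S : Subgroup X) := iSup_le fun T =>
    ((Omega.omegaOne_le _).trans (zc_le_pCore hF T)).trans (Cores.pCore_le_sylow S)
  have hZc := (ThompsonSubgroup.isElementaryAbelian_iff.mp hZ).1
  have hle : A.map f ≤ Y.map f := map_mono hAY
  have hAc' : ∀ x ∈ A.map f, ∀ y ∈ A.map f, x * y = y * x := by
    rintro _ ⟨x, hx, rfl⟩ _ ⟨y, hy, rfl⟩
    rw [← map_mul, ← map_mul, hAc x hx y hy]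
  have hw := weight_le_abelian s hle hAc' ((S.2.to_le hAS).map f)
  have hge : Nat.card (Sec.base Z) ≤ weight (Sec.base Z) (A.map f) := by
    rw [weight, Sec.card_fixed, Sec.card_base]
    have hk := Cores.card_eq_card_inf_ker_mul_card_map A f
    rw [Sec.ker_img] at hk
    set A₀ := A ⊓ centralizer (Z : Set X)
    have hsup : ∀ x ∈ A₀ ⊔ Z, ∀ y ∈ A₀ ⊔ Z, x * y = y * x := by
      have h1 : A₀ ⊔ Z ≤ centralizer ((A₀ ⊔ Z : Subgroup X) : Set X) := by
        refine sup_le ?_ ?_ <;> rw [le_centralizer_iff] <;> refine sup_le ?_ ?_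
        · exact fun x hx y hy => hAc y hy.1 x hx.1
        · exact le_centralizer_iff.mp inf_le_right
        · exact inf_le_right
        · exact fun x hx y hy => hZc y hy x hx
      exact fun x hx y hy => h1 hy x hx
    have h2 := hmax (A₀ ⊔ Z) (sup_le (inf_le_left.trans hAS) hZS) hsup
    have h3 := GlaubermanReplacement.card_sup_mul_card_inf (A := A₀) (B := Z)
      (le_of_le_of_eq le_top (normalizer_eq_top (H := Z)).symm)
    have h4 : Nat.card (A₀ ⊓ Z : Subgroup X) ≤ Nat.card (Z ⊓ centralizer (A : Set X) : Subgroup X) :=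
      Subgroup.card_le_of_le fun x hx => ⟨hx.2, fun y hy => hAc y hy x hx.1.1⟩
    have h0 := Nat.card_pos (α := A₀)
    refine Nat.le_of_mul_le_mul_left ?_ h0
    calc Nat.card A₀ * Nat.card Z = Nat.card (A₀ ⊔ Z : Subgroup X) * Nat.card (A₀ ⊓ Z : Subgroup X) := h3.symm
      _ ≤ Nat.card A * Nat.card (Z ⊓ centralizer (A : Set X) : Subgroup X) := Nat.mul_le_mul h2 h4
      _ = _ := by rw [hk, mul_assoc]
  have heq := le_antisymm hw.1 hge
  exact (isBestOffender_iff s hle).mpr ⟨hw.2 heq, heq⟩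

theorem main (hF : fittingSubgroup X = pCore 2 X) (T : Sylow 2 X) :
    ((centralizer (zc T : Set X)).normalCore
        ⊔ normalClosure (thompsonSubgroupAOf (T : Subgroup X) : Set X)
        ⊔ normalizer (thompsonSubgroupAOf (T : Subgroup X) : Set X) = ⊤) ∧
    (normalClosure (thompsonSubgroupAOf (T : Subgroup X) : Set X) ≤ (centralizer (zc T : Set X)).normalCore
      ∨ ∃ n : ℕ, 1 ≤ n ∧
        Nonempty (↥(normalClosure (thompsonSubgroupAOf (T : Subgroup X) : Set X)) ⧸
            ((centralizer (zc T : Set X)).normalCore).subgroupOf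
              (normalClosure (thompsonSubgroupAOf (T : Subgroup X) : Set X))
          ≃* (Fin n → Equiv.Perm (Fin 3)))) := by
  haveI : Fact (Nat.Prime 2) := ⟨Nat.prime_two⟩
  set J := thompsonSubgroupAOf (T : Subgroup X) with hJ
  set Y := normalClosure (J : Set X) with hY
  set C := (centralizer (zc T : Set X)).normalCore with hC
  have hJY : J ≤ Y := subset_normalClosure
  constructor
  · set D := C ⊔ Y
    obtain ⟨P, hP⟩ : ∃ P : Sylow 2 D, (P : Subgroup D).map D.subtype = (T : Subgroup X) ⊓ D := by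
      have hi := Omega.not_dvd_relIndex_inf T D
      let P : Sylow 2 D := (show IsPGroup 2 (((T : Subgroup X) ⊓ D).subgroupOf D) from
        (T.2.to_le inf_le_left).comap_subtype).toSylow hi
      exact ⟨P, map_subgroupOf_eq_of_le inf_le_right⟩
    have hJT : J ≤ (T : Subgroup X) ⊓ D :=
      le_inf (CharP.WeakClosureJ.J_le _) (hJY.trans le_sup_right)
    have h := Sylow.normalizer_sup_eq_top P
    rw [hP] at h
    rw [eq_top_iff, ← h]
    refine sup_le (le_sup_of_le_right ?_) le_sup_left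
    rw [hJ, ← CharP.WeakClosureJ.J_eq_of_le inf_le_left hJT]
    exact CharP.WeakClosureJ.normalizer_le_normalizer_J _
  have hCK : C = centralizer (zetaJoin 2 X : Set X) := normalCore_eq hF T
  set f := Sec.img (zetaJoin 2 X) with hf
  have hker : f.ker = C := by rw [hCK, Sec.ker_img]
  by_cases hYC : Y ≤ C
  · exact Or.inl hYC
  refine Or.inr ?_
  have hsep := SolvableSeparable.isPSolvable_of_isSolvable 2 X
  have s := Sec.setup (p := 2) (zetaJoin 2 X) (zetaJoin_elem hsep (pPrimeCore_eq_bot hF)) (J := Y) hsep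
    pCore_quotient_zetaJoin
  have hgen : Y.map f = ⨆ A : {A : Subgroup (Sec.Amb (zetaJoin 2 X)) // A ≤ Y.map f ∧
      IsBestOffenderOn 2 (Sec.base (zetaJoin 2 X)) A}, (A : Subgroup (Sec.Amb (zetaJoin 2 X))) := by
    set L := (⨆ A : {A : Subgroup (Sec.Amb (zetaJoin 2 X)) // A ≤ Y.map f ∧
      IsBestOffenderOn 2 (Sec.base (zetaJoin 2 X)) A}, (A : Subgroup (Sec.Amb (zetaJoin 2 X)))) with hL
    refine le_antisymm ?_ (iSup_le fun A => A.2.1)
    rw [map_le_iff_le_comap, hY]
    refine (closure_le _).2 ?_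
    intro x hx
    rw [Group.conjugatesOfSet, Set.mem_iUnion₂] at hx
    obtain ⟨a, ha, hax⟩ := hx
    obtain ⟨g, rfl⟩ := isConj_iff.mp hax
    suffices hsub : J ≤ (L.comap f).comap (MulAut.conj g).toMonoidHom from hsub ha
    rw [hJ, thompsonSubgroupAOf, map_le_iff_le_comap, thompsonSubgroupA]
    refine sSup_le fun A hA => ?_
    rw [← map_le_iff_le_comap, ← map_le_iff_le_comap, ← map_le_iff_le_comap]
    obtain ⟨hAc, hAmax⟩ := hA
    have hA' : IsMaxAb (T : Subgroup X) (A.map (T : Subgroup X).subtype) := by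
      refine ⟨map_subtype_le _, ?_, fun B hB hBc => ?_⟩
      · rintro _ ⟨u, hu, rfl⟩ _ ⟨v, hv, rfl⟩
        rw [← map_mul, ← map_mul, show u * v = v * u from congrArg Subtype.val (hAc.is_comm.comm ⟨u, hu⟩ ⟨v, hv⟩)]
      · rw [card_subtype, ← Nat.card_congr (subgroupOfEquivOfLe hB).toEquiv]
        exact hAmax _ ⟨⟨fun u v => Subtype.ext (Subtype.ext (hBc _ u.2 _ v.2))⟩⟩
    have hT' : (T : Subgroup X).map (MulAut.conj g).toMonoidHom = ((g • T : Sylow 2 X) : Subgroup X) := rfl
    have hA'' := hT' ▸ hA'.conj g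
    have hle : (A.map (T : Subgroup X).subtype).map (MulAut.conj g).toMonoidHom ≤ Y := by
      rintro _ ⟨z, hz, rfl⟩
      refine (inferInstance : Y.Normal).conj_mem z (hJY ?_) g
      rw [hJ, thompsonSubgroupAOf]
      exact map_mono (le_sSup (show A ∈ maxAbelianSubgroups ↥(T : Subgroup X) from ⟨hAc, hAmax⟩)) hz
    exact le_iSup_of_le ⟨_, map_mono hle, offender_of_isMaxAb hF (g • T) hA'' hle⟩ le_rfl
  obtain ⟨n, hn, ⟨e⟩⟩ := exists_pi_equiv s hgen (fun h => hYC (by
    rw [← hker]; exact (Subgroup.map_eq_bot_iff Y).1 h))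
  refine ⟨n, hn, ⟨?_⟩⟩
  have hrange : (f.comp Y.subtype).range = Y.map f := by rw [MonoidHom.range_comp, range_subtype]
  have hkerY : (f.comp Y.subtype).ker = C.subgroupOf Y := by rw [← hker]; rfl
  exact ((QuotientGroup.quotientMulEquivOfEq hkerY.symm).trans
    ((QuotientGroup.quotientKerEquivRange (f.comp Y.subtype)).trans (MulEquiv.subgroupCongr hrange))).trans e

end Cfsg.Agent.GroupStructure3.ThompsonS3
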