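import Cfsg.Agent.Lib.PLocal.Offender.Structure

/-! Abelian offenders: the bound, and fullness forces exponent two. -/

set_option autoImplicit false
set_option linter.all false

namespace Cfsg.Agent.GroupStructure3.ThompsonS3

open Subgroup Cfsg Cfsg.Agent.PLocal Cfsg.Agent.PLocal.Offender
open scoped commutatorElement IsMulCommutative

/-- An endomorphism with trivial power: the length of the chain bounds the image. -/
theorem two_pow_le_card_range {W : Type*} [CommGroup W] [Finite W] : ∀ (r : ℕ) (f : W →* W) (n : ℕ),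
    (∀ w, f^[n] w = 1) → (∃ w, f^[r] w ≠ 1) → 2 ^ r ≤ Nat.card f.range
  | 0, f, _, _, _ => by rw [pow_zero]; exact Nat.card_pos
  | r + 1, f, n, hn, ⟨w, hw⟩ => by
    have hmem : ∀ x : f.range, f (x : W) ∈ f.range := fun x => ⟨x, rfl⟩
    let g : f.range →* f.range := (f.comp f.range.subtype).codRestrict f.range hmem
    have hiter : ∀ (k : ℕ) (x : f.range), ((g^[k] x : f.range) : W) = f^[k] (x : W) := by
      intro k
      induction k with
      | zero => intro x; rfl
      | succ k ih => intro x; rw [Function.iterate_succ', Function.iterate_succ', Function.comp_apply,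
          Function.comp_apply, ← ih x]; rfl
    have hg : ∀ x, g^[n] x = 1 := fun x => Subtype.ext (by rw [hiter, hn]; rfl)
    have hr : ∃ x, g^[r] x ≠ 1 := ⟨⟨f w, w, rfl⟩, fun h => hw (by
      have := congrArg Subtype.val h
      rw [hiter] at this
      rw [Function.iterate_succ_apply]
      exact this)⟩
    have hrec := two_pow_le_card_range r g n hg hr
    have hker : 1 < Nat.card g.ker := by
      rw [one_lt_card_iff_ne_bot]
      intro hb
      have hinj := (MonoidHom.ker_eq_bot_iff g).1 hb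
      obtain ⟨x, hx⟩ := hr
      have h1 : g^[n] x = g^[n] 1 := by rw [hg, hg]
      have : x = 1 := hinj.iterate n h1
      rw [this] at hx
      exact hx (Function.iterate_fixed (map_one g) r)
    have hcard : Nat.card g.range * Nat.card g.ker = Nat.card f.range := by
      rw [← index_ker, mul_comm, card_mul_index]
    calc 2 ^ (r + 1) = 2 ^ r * 2 := pow_succ _ _
      _ ≤ Nat.card g.range * Nat.card g.ker := Nat.mul_le_mul hrec hker
      _ = _ := hcard

variable {G : Type*} [Group G]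

section Delta

variable (W : Subgroup G) [IsMulCommutative W] {a : G}

/-- `v ↦ [a, v]` on an invariant abelian subgroup. -/
def delta (ha : a ∈ normalizer (W : Set G)) : W →* W where
  toFun v := ⟨a * v * a⁻¹ * (v : G)⁻¹, mul_mem ((mem_normalizer_iff.mp ha _).mp v.2) (inv_mem v.2)⟩
  map_one' := Subtype.ext (by simp)
  map_mul' u v := by
    have h1 : (⟨a * (u * v : G) * a⁻¹, (mem_normalizer_iff.mp ha _).mp (mul_mem u.2 v.2)⟩ : W) =
        ⟨a * u * a⁻¹, (mem_normalizer_iff.mp ha _).mp u.2⟩ * ⟨a * v * a⁻¹, (mem_normalizer_iff.mp ha _).mp v.2⟩ :=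
      Subtype.ext (by show a * (u * v : G) * a⁻¹ = a * u * a⁻¹ * (a * v * a⁻¹); group)
    show (⟨a * (u * v : G) * a⁻¹, (mem_normalizer_iff.mp ha _).mp (mul_mem u.2 v.2)⟩ : W) * (u * v)⁻¹ =
      (⟨a * u * a⁻¹, (mem_normalizer_iff.mp ha _).mp u.2⟩ * u⁻¹) *
        (⟨a * v * a⁻¹, (mem_normalizer_iff.mp ha _).mp v.2⟩ * v⁻¹)
    rw [h1, mul_inv, mul_mul_mul_comm]

theorem delta_eq_one (ha : a ∈ normalizer (W : Set G)) (v : W) :
    delta W ha v = 1 ↔ a * (v : G) = (v : G) * a := by
  rw [Subtype.ext_iff]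
  show a * (v : G) * a⁻¹ * (v : G)⁻¹ = 1 ↔ _
  rw [mul_inv_eq_one, mul_inv_eq_iff_eq_mul]

theorem delta_iterate_two_pow (hW : ∀ w ∈ W, w ^ 2 = 1) (ha : a ∈ normalizer (W : Set G)) :
    ∀ (i : ℕ) (v : W), ((delta W ha)^[2 ^ i] v : G) = a ^ 2 ^ i * v * (a ^ 2 ^ i)⁻¹ * (v : G)⁻¹
  | 0, v => by simp [delta]
  | i + 1, v => by
    rw [pow_succ 2 i, mul_two, Function.iterate_add_apply, delta_iterate_two_pow hW ha i,
      delta_iterate_two_pow hW ha i, pow_add a]
    set b := a ^ 2 ^ i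
    have hb : b ∈ normalizer (W : Set G) := pow_mem ha _
    have hinv : ∀ w ∈ W, w⁻¹ = w := fun w hw => inv_eq_of_mul_eq_one_right (by rw [← sq]; exact hW w hw)
    have hbv : b * v * b⁻¹ ∈ W := (mem_normalizer_iff.mp hb _).mp v.2
    have hbbv : b * (b * v * b⁻¹) * b⁻¹ ∈ W := (mem_normalizer_iff.mp hb _).mp hbv
    have e1 : b * (b * (v : G) * b⁻¹ * (v : G)⁻¹) * b⁻¹ = (b * b) * v * (b * b)⁻¹ * (b * v * b⁻¹) := by
      rw [hinv v v.2]; group
    have h2 : (b * v * b⁻¹ * (v : G)⁻¹)⁻¹ = b * v * b⁻¹ * (v : G) := by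
      rw [hinv _ (mul_mem hbv (inv_mem v.2)), hinv v v.2]
    rw [e1, h2, hinv v v.2]
    calc (b * b) * v * (b * b)⁻¹ * (b * v * b⁻¹) * (b * v * b⁻¹ * v)
        = (b * b) * v * (b * b)⁻¹ * ((b * v * b⁻¹) * (b * v * b⁻¹)) * v := by group
      _ = (b * b) * v * (b * b)⁻¹ * v := by rw [← sq (b * v * b⁻¹), hW _ hbv, mul_one]

end Delta

variable [Finite G]

/-- Generation by centralizers of elements outside `M`. -/
theorem le_of_centralizers {A M K L : Subgroup G} (hAc : ∀ x ∈ A, ∀ y ∈ A, x * y = y * x) (hMA : M ≤ A)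
    (hAK : A ≤ normalizer (K : Set G)) (hMK : M ≤ centralizer (K : Set G))
    (hcop : (Nat.card A).Coprime (Nat.card K)) (hcyc : ¬ ∃ a ∈ A, M ⊔ zpowers a = A)
    (h : ∀ a ∈ A, a ∉ M → K ⊓ centralizer {a} ≤ L) : K ≤ L := by
  classical
  haveI : (M.subgroupOf A).Normal := ⟨fun x hx g => by
    have : (g : G) * x * (g : G)⁻¹ = x := by rw [hAc _ g.2 _ x.2, mul_inv_cancel_right]
    have hxM : (x : G) ∈ M := hx
    show (g : G) * x * (g : G)⁻¹ ∈ M
    rwa [this]⟩
  let φ₀ : A →* MulAut K := K.normalizerMonoidHom.comp (inclusion hAK)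
  have hval : ∀ (a : A) (k : K), ((φ₀ a k : K) : G) = (a : G) * k * (a : G)⁻¹ := fun _ _ => rfl
  let φ : A ⧸ M.subgroupOf A →* MulAut K := QuotientGroup.lift _ φ₀ fun x hx => by
    refine MulEquiv.ext fun k => Subtype.ext ?_
    rw [hval]
    show (x : G) * k * (x : G)⁻¹ = k
    have hxM : (x : G) ∈ M := hx
    rw [← mem_centralizer_iff.1 (hMK hxM) k k.2, mul_inv_cancel_right]
  haveI : Finite (K ⋊[φ] (A ⧸ M.subgroupOf A)) := Finite.of_equiv _ SemidirectProduct.equivProd.symm
  set A' := (SemidirectProduct.inr : _ →* K ⋊[φ] (A ⧸ M.subgroupOf A)).range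
  set K' := (SemidirectProduct.inl : _ →* K ⋊[φ] (A ⧸ M.subgroupOf A)).range
  haveI : IsMulCommutative A' := ⟨⟨by
    rintro ⟨_, x, rfl⟩ ⟨_, y, rfl⟩
    refine Subtype.ext ?_
    show SemidirectProduct.inr x * SemidirectProduct.inr y = SemidirectProduct.inr y * SemidirectProduct.inr x
    obtain ⟨x', rfl⟩ := QuotientGroup.mk_surjective x
    obtain ⟨y', rfl⟩ := QuotientGroup.mk_surjective y
    rw [← map_mul, ← map_mul, ← QuotientGroup.mk_mul, ← QuotientGroup.mk_mul,
      show x' * y' = y' * x' from Subtype.ext (hAc _ x'.2 _ y'.2)]⟩⟩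
  let eA : (A ⧸ M.subgroupOf A) ≃* A' := MonoidHom.ofInjective SemidirectProduct.inr_injective
  have hnc : ¬ IsCyclic A' := fun hc => by
    haveI : IsCyclic (A ⧸ M.subgroupOf A) := isCyclic_of_surjective eA.symm eA.symm.surjective
    obtain ⟨g, hg⟩ := IsCyclic.exists_generator (α := A ⧸ M.subgroupOf A)
    obtain ⟨a, rfl⟩ := QuotientGroup.mk_surjective g
    refine hcyc ⟨a, a.2, le_antisymm (sup_le hMA (zpowers_le.2 a.2)) fun x hx => ?_⟩
    obtain ⟨i, hi⟩ := mem_zpowers_iff.1 (hg (QuotientGroup.mk ⟨x, hx⟩))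
    rw [← QuotientGroup.mk_zpow, QuotientGroup.eq] at hi
    have hm : ((a ^ i)⁻¹ * ⟨x, hx⟩ : A).1 ∈ M := hi
    rw [show x = (a : G) ^ i * ((a ^ i)⁻¹ * ⟨x, hx⟩ : A).1 by simp]
    exact mul_mem (zpow_mem (mem_sup_right (mem_zpowers _)) i) (mem_sup_left hm)
  have hnorm : A' ≤ normalizer (K' : Set (K ⋊[φ] (A ⧸ M.subgroupOf A))) := by
    have : K'.Normal := by
      rw [show K' = (SemidirectProduct.rightHom : K ⋊[φ] (A ⧸ M.subgroupOf A) →* _).ker from
        SemidirectProduct.range_inl_eq_ker_rightHom]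
      infer_instance
    rw [normalizer_eq_top]; exact le_top
  have hcop' : (Nat.card A').Coprime (Nat.card K') := by
    rw [← Nat.card_congr eA.toEquiv, ← Nat.card_congr (MonoidHom.ofInjective
      (SemidirectProduct.inl_injective (φ := φ))).toEquiv]
    exact hcop.coprime_dvd_left (card_quotient_dvd_card _)
  intro k hk
  have hgen : K' ≤ (L.subgroupOf K).map SemidirectProduct.inl := by
    conv_lhs => rw [← Coprime.fixedGen_eq hnc hnorm hcop']
    refine iSup₂_le ?_
    rintro _ ⟨⟨x, rfl⟩, hx1⟩ _ ⟨⟨u, rfl⟩, hu⟩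
    obtain ⟨a, rfl⟩ := QuotientGroup.mk_surjective x
    refine ⟨u, h a a.2 (fun haM => hx1 ?_) ⟨u.2, ?_⟩, rfl⟩
    · rw [(QuotientGroup.eq_one_iff a).2 haM, map_one]
    · refine mem_centralizer_singleton_iff.2 ?_
      have h1 := mem_centralizer_singleton_iff.1 hu
      have h3 := SemidirectProduct.inl_aut (φ := φ) (QuotientGroup.mk a) u
      rw [← h1, mul_assoc, ← map_mul, mul_inv_cancel, map_one, mul_one] at h3
      have h4 : φ₀ a u = u := SemidirectProduct.inl_injective h3
      have h2 := congrArg Subtype.val h4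
      rw [hval, mul_inv_eq_iff_eq_mul] at h2
      exact h2.symm
  obtain ⟨u, hu, hue⟩ := hgen ⟨⟨k, hk⟩, rfl⟩
  have : u = ⟨k, hk⟩ := SemidirectProduct.inl_injective hue
  subst this
  exact hu

variable {V H F : Subgroup G}

/-- The fixed points grow when the fixed points in `F` grow (abelian version). -/
theorem fixed_ne (s : Setup 2 V H F) {A B : Subgroup G} (hAH : A ≤ H) (hAc : ∀ x ∈ A, ∀ y ∈ A, x * y = y * x)
    (hAp : IsPGroup 2 A) (hBA : B ≤ A) {b : G} (hb : b ∈ A)
    (hbB : b ∉ centralizer ((F ⊓ centralizer (B : Set G) : Subgroup G) : Set G)) :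
    ¬ V ⊓ centralizer (B : Set G) ≤ centralizer (A : Set G) := by
  intro he'
  haveI : Fact (Nat.Prime 2) := ⟨Nat.prime_two⟩
  set W := V ⊓ centralizer (B : Set G) with hW
  have hVp : IsPGroup 2 V := ThompsonSubgroup.IsElementaryAbelian.isPGroup s.elem
  set K := F ⊓ centralizer (B : Set G) with hK
  have hAK : A ≤ normalizer (K : Set G) := le_normalizer_inf (hAH.trans s.core_norm)
    (le_normalizer_centralizer (fun x hx => centralizer_le_normalizer _
      fun y hy => hAc y (hBA hy) x hx))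
  have hKH : K ≤ H := inf_le_left.trans s.core_le
  set Q := ⁅K, A⁆ with hQ
  have hQK : Q ≤ K := Coprime.commutator_le_of_le_normalizer hAK
  have hKW : K ≤ normalizer (W : Set G) := le_normalizer_inf (hKH.trans s.norm)
    (le_normalizer_centralizer ((inf_le_right.trans (centralizer_le_normalizer _)) :
      K ≤ normalizer (B : Set G)))
  have hQW : W ⊓ centralizer (B : Set G) ≤ centralizer (Q : Set G) := by
    refine inf_le_left.trans ?_
    rw [le_centralizer_iff, ← commutator_eq_bot_iff_le_centralizer, hQ]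
    have h0 : ⁅W, A⁆ = ⊥ := le_centralizer_iff_commutator.mp (le_centralizer_iff.mp he')
    apply commutator_commutator_eq_bot_of_rotate
    · rw [commutator_comm A W, h0, commutator_bot_left]
    · refine le_bot_iff.mp ((commutator_mono ?_ le_rfl).trans h0.le)
      exact le_normalizer_iff_commutator_le_left.mp hKW
  have hQc : Q ≤ centralizer (V : Set G) := by
    refine Coprime.le_centralizer_of_pxq (hAp.to_le hBA)
      (s.core_cop.coprime_dvd_left (card_dvd_of_le (hQK.trans inf_le_left))) hVp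
      (le_centralizer_iff.mp (hQK.trans inf_le_right)) ((hBA.trans hAH).trans s.norm)
      ((hQK.trans hKH).trans s.norm) ?_
    intro x hx
    exact hQW ⟨⟨hx.1, hx.2⟩, hx.2⟩
  refine hbB ((le_centralizer_iff_commutator.mpr ?_) hb)
  rw [← hQ]
  exact le_bot_iff.mp (s.faithful ▸ le_inf (hQK.trans hKH) hQc)

/-- `|B| |C_V(B)|`. -/
noncomputable def weight (V B : Subgroup G) : ℕ := Nat.card B * Nat.card ↥(V ⊓ centralizer (B : Set G))

/-- A full subgroup containing a point reduces. -/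
theorem reduce (s : Setup 2 V H F) {B P : Subgroup G} (hBH : B ≤ H) (hBc : ∀ x ∈ B, ∀ y ∈ B, x * y = y * x)
    (hP : Point 2 V H P) (hPB : P ≤ B) :
    ∃ B' ≤ B, B' ≠ B ∧ weight V B ≤ weight V B' ∧ B ≤ P ⊔ B' := by
  classical
  haveI : Fact (Nat.Prime 2) := ⟨Nat.prime_two⟩
  have d := factor s hP
  obtain ⟨t, htP, ht1, htz⟩ := hP.gen
  set E := ⁅F, P⁆ ⊔ P
  set W := ⁅V, E⁆ with hWdef
  have hEH : E ≤ H := sup_le ((le_normalizer_iff_commutator_le_left.mp (hP.le.trans s.core_norm)).trans s.core_le) hP.le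
  have hWV : W ≤ V := le_normalizer_iff_commutator_le_left.mp (hEH.trans s.norm)
  have hPn : ∀ b ∈ B, b ∈ normalizer (P : Set G) := fun b hb => centralizer_le_normalizer _ fun y hy => hBc y (hPB hy) b hb
  have hWn : ∀ b ∈ B, b ∈ normalizer (W : Set G) := fun b hb => by
    have hE : b ∈ normalizer (E : Set G) := by
      rw [mem_normalizer_map]
      show (⁅F, P⁆ ⊔ P).map _ = _
      rw [Subgroup.map_sup, Subgroup.map_commutator, mem_normalizer_map.mp (s.core_norm (hBH hb)),
        mem_normalizer_map.mp (hPn b hb)]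
    rw [mem_normalizer_map, hWdef, Subgroup.map_commutator, mem_normalizer_map.mp (s.norm (hBH hb)),
      mem_normalizer_map.mp hE]
  have hVc := (ThompsonSubgroup.isElementaryAbelian_iff.mp s.elem).1
  have hV2 := (ThompsonSubgroup.isElementaryAbelian_iff.mp s.elem).2
  have ht2 : t * t = 1 := by
    rw [← sq]; exact (ThompsonSubgroup.isElementaryAbelian_iff.mp hP.elem).2 t htP
  obtain ⟨w₁, hw₁, hw₁t⟩ : ∃ w ∈ W, t * w ≠ w * t := by
    by_contra hall
    push Not at hall
    have : t ∈ E ⊓ centralizer (W : Set G) := ⟨mem_sup_right htP, fun w hw => (hall w hw).symm⟩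
    rw [d.faithful] at this
    exact ht1 (mem_bot.mp this)
  set w₀ := t * w₁ * t⁻¹ * w₁⁻¹ with hw₀def
  have htW := mem_normalizer_iff.mp (hWn t (hPB htP))
  have hw₀ : w₀ ∈ W := mul_mem ((htW _).mp hw₁) (inv_mem hw₁)
  have hw₀1 : w₀ ≠ 1 := fun h => hw₁t (mul_inv_eq_iff_eq_mul.mp (mul_inv_eq_one.mp h))
  have hinv : ∀ w ∈ W, w⁻¹ = w := fun w hw => inv_eq_of_mul_eq_one_right (by rw [← sq]; exact hV2 w (hWV hw))
  have hcomm : ∀ u ∈ W, ∀ v ∈ W, u * v = v * u := fun u hu v hv => hVc u (hWV hu) v (hWV hv)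
  have hw₀t : t * w₀ = w₀ * t := by
    have hti : t⁻¹ = t := inv_eq_of_mul_eq_one_right ht2
    have h1 : t * w₁ * t⁻¹ ∈ W := (htW _).mp hw₁
    rw [← mul_inv_eq_iff_eq_mul, hw₀def, hinv _ hw₁]
    calc t * (t * w₁ * t⁻¹ * w₁) * t⁻¹ = (t * t) * w₁ * (t * t)⁻¹ * (t * w₁ * t⁻¹) := by group
      _ = w₁ * (t * w₁ * t⁻¹) := by rw [ht2]; simp
      _ = t * w₁ * t⁻¹ * w₁ := hcomm _ hw₁ _ h1
  have h10 : w₁ ≠ w₀ := fun h => hw₁t (h ▸ hw₀t)
  have h11 : w₁ ≠ 1 := fun h => hw₁t (by rw [h, mul_one, one_mul])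
  have hall : ∀ x ∈ W, x = 1 ∨ x = w₀ ∨ x = w₁ ∨ x = w₀ * w₁ := by
    intro x hx
    by_contra hne
    simp only [not_or] at hne
    haveI := Fintype.ofFinite W
    have hsub : ({⟨1, one_mem _⟩, ⟨w₀, hw₀⟩, ⟨w₁, hw₁⟩, ⟨w₀ * w₁, mul_mem hw₀ hw₁⟩, ⟨x, hx⟩} : Finset W).card ≤ Fintype.card W :=
      Finset.card_le_univ _
    rw [← Nat.card_eq_fintype_card, show Nat.card W = 2 ^ 2 from d.card,
      Finset.card_insert_of_notMem, Finset.card_insert_of_notMem, Finset.card_insert_of_notMem,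
      Finset.card_pair] at hsub
    · omega
    all_goals simp only [Finset.mem_insert, Finset.mem_singleton, Subtype.mk.injEq, not_or, ne_eq]
    · exact fun h => hne.2.2.2 h.symm
    · refine ⟨fun h => hw₀1 ?_, fun h => hne.2.2.1 h.symm⟩
      have := mul_right_cancel (h.symm.trans (one_mul w₁).symm)
      exact this
    · refine ⟨fun h => h10 h.symm, fun h => h11 ?_, fun h => hne.2.1 h.symm⟩
      exact mul_left_cancel (h.symm.trans (mul_one w₀).symm)
    · refine ⟨fun h => hw₀1 h.symm, fun h => h11 h.symm, fun h => ?_, fun h => hne.1 h.symm⟩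
      exact h10 ((hinv w₀ hw₀ ▸ eq_inv_of_mul_eq_one_right h.symm : w₁ = w₀))
  have hfix : ∀ x ∈ W, t * x = x * t → x = 1 ∨ x = w₀ := by
    intro x hx hxt
    rcases hall x hx with rfl | rfl | rfl | rfl
    · exact Or.inl rfl
    · exact Or.inr rfl
    · exact absurd hxt hw₁t
    · refine absurd ?_ hw₁t
      refine mul_left_cancel (a := w₀) ?_
      calc w₀ * (t * w₁) = (w₀ * t) * w₁ := (mul_assoc _ _ _).symm
        _ = (t * w₀) * w₁ := by rw [hw₀t]
        _ = t * (w₀ * w₁) := mul_assoc _ _ _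
        _ = (w₀ * w₁) * t := hxt
        _ = w₀ * (w₁ * t) := mul_assoc _ _ _
  have hbt : ∀ b ∈ B, b ∈ centralizer (W : Set G) ∨ b * t ∈ centralizer (W : Set G) := by
    intro b hb
    have hbW := mem_normalizer_iff.mp (hWn b hb)
    have hcb : Commute b t := hBc b hb t (hPB htP)
    have hb0 : b * w₀ * b⁻¹ = w₀ := by
      rcases hfix _ ((hbW _).mp hw₀) (show Commute t (b * w₀ * b⁻¹) from
        (hcb.symm.mul_right hw₀t).mul_right hcb.inv_left.symm).eq with h | h
      · exact absurd (by simpa using h) hw₀1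
      · exact h
    have key : ∀ c : G, c * w₀ * c⁻¹ = w₀ → c * w₁ * c⁻¹ = w₁ → c ∈ centralizer (W : Set G) := by
      intro c h0 h1 x hx
      refine (mul_inv_eq_iff_eq_mul.mp ?_).symm
      rcases hall x hx with rfl | rfl | rfl | rfl
      · simp
      · exact h0
      · exact h1
      · calc c * (w₀ * w₁) * c⁻¹ = (c * w₀ * c⁻¹) * (c * w₁ * c⁻¹) := by group
          _ = w₀ * w₁ := by rw [h0, h1]
    have e1 : t * w₁ * t⁻¹ = w₀ * w₁ := by rw [hw₀def, inv_mul_cancel_right]
    rcases hall _ ((hbW _).mp hw₁) with h | h | h | h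
    · exact absurd (by simpa using h) h11
    · exact absurd (mul_left_cancel (mul_right_cancel (h.trans hb0.symm))) h10
    · exact Or.inl (key b hb0 h)
    · refine Or.inr (key _ ?_ ?_)
      · calc b * t * w₀ * (b * t)⁻¹ = b * (t * w₀ * t⁻¹) * b⁻¹ := by group
          _ = _ := by rw [hw₀t, mul_inv_cancel_right, hb0]
      · calc b * t * w₁ * (b * t)⁻¹ = b * (t * w₁ * t⁻¹) * b⁻¹ := by group
          _ = (b * w₀ * b⁻¹) * (b * w₁ * b⁻¹) := by rw [e1]; group
          _ = w₁ := by rw [hb0, h, ← mul_assoc, ← sq w₀, hV2 w₀ (hWV hw₀), one_mul]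
  set B' := B ⊓ centralizer (W : Set G)
  have htB' : t ∉ B' := fun h => hw₁t ((h.2 w₁ hw₁).symm)
  have hcov : ∀ b ∈ B, b ∈ B' ∨ b * t ∈ B' := fun b hb =>
    (hbt b hb).imp (fun h => ⟨hb, h⟩) fun h => ⟨mul_mem hb (hPB htP), h⟩
  have hle : B ≤ P ⊔ B' := by
    intro b hb
    rcases hcov b hb with h | h
    · exact mem_sup_right h
    · rw [show b = b * t * t⁻¹ by group]
      exact mul_mem (mem_sup_right h) (mem_sup_left (inv_mem htP))
  refine ⟨B', inf_le_left, fun h => htB' (h ▸ hPB htP), ?_, hle⟩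
  have hcardB : Nat.card B ≤ 2 * Nat.card B' := by
    have h := GlaubermanReplacement.card_sup_mul_card_inf (A := P) (B := B')
      (fun x hx => centralizer_le_normalizer _ fun y hy => hBc y hy.1 x (hPB hx))
    have h1 := Nat.card_pos (α := (P ⊓ B' : Subgroup G))
    have h2 := Subgroup.card_le_of_le hle
    rw [hP.card] at h
    nlinarith
  have hsub : V ⊓ centralizer (B : Set G) < V ⊓ centralizer (B' : Set G) := by
    refine lt_of_le_not_ge (inf_le_inf_left _ (centralizer_le inf_le_left)) fun hle2 => hw₁t ?_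
    have : w₁ ∈ V ⊓ centralizer (B' : Set G) := ⟨hWV hw₁, fun y hy => (hy.2 w₁ hw₁).symm⟩
    exact (hle2 this).2 t (hPB htP)
  have hgrow : 2 * Nat.card ↥(V ⊓ centralizer (B : Set G)) ≤ Nat.card ↥(V ⊓ centralizer (B' : Set G)) := by
    obtain ⟨q, hq⟩ := Subgroup.card_dvd_of_le hsub.le
    rcases Nat.lt_or_ge q 2 with hq2 | hq2
    · exfalso
      refine hsub.ne (eq_of_le_of_card_ge hsub.le ?_)
      rw [hq]
      calc _ ≤ Nat.card ↥(V ⊓ centralizer (B : Set G)) * 1 := Nat.mul_le_mul_left _ (by omega)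
        _ = _ := mul_one _
    · rw [hq, mul_comm]; exact Nat.mul_le_mul_left _ hq2
  calc weight V B ≤ 2 * Nat.card B' * Nat.card ↥(V ⊓ centralizer (B : Set G)) := Nat.mul_le_mul_right _ hcardB
    _ = Nat.card B' * (2 * Nat.card ↥(V ⊓ centralizer (B : Set G))) := by ring
    _ ≤ weight V B' := Nat.mul_le_mul_left _ hgrow

/-- The bound for abelian subgroups, with equality only for exponent two. -/
theorem weight_le_abelian (s : Setup 2 V H F) : ∀ {B : Subgroup G}, B ≤ H → (∀ x ∈ B, ∀ y ∈ B, x * y = y * x) →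
    IsPGroup 2 B → weight V B ≤ Nat.card V ∧ (weight V B = Nat.card V → IsElementaryAbelian 2 B) := by
  intro B
  induction hn : Nat.card B using Nat.strong_induction_on generalizing B with
  | _ n IH =>
  subst hn
  intro hBH hBc hBp
  classical
  haveI : Fact (Nat.Prime 2) := ⟨Nat.prime_two⟩
  by_cases hel : IsElementaryAbelian 2 B
  · exact ⟨weight_le s hBH hel, fun _ => hel⟩
  have hB1 : B ≠ ⊥ := fun h => hel (h ▸ ThompsonSubgroup.isElementaryAbelian_bot)
  have hlt : ∀ {M : Subgroup G}, M ≤ B → M ≠ B → Nat.card M < Nat.card B := fun {M} h hne =>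
    lt_of_le_of_ne (Subgroup.card_le_of_le h) fun e => hne (eq_of_le_of_card_ge h e.ge)
  have hIH : ∀ {M : Subgroup G}, M ≤ B → M ≠ B → weight V M ≤ Nat.card V ∧ (weight V M = Nat.card V → IsElementaryAbelian 2 M) :=
    fun {M} h hne => IH _ (hlt h hne) rfl (h.trans hBH) (fun x hx y hy => hBc x (h hx) y (h hy)) (hBp.to_le h)
  have hcopF : (Nat.card B).Coprime (Nat.card F) := by
    obtain ⟨k, hk⟩ := IsPGroup.iff_card.1 hBp
    rw [hk]; exact (s.core_cop.symm).pow_left k
  obtain ⟨M, ⟨hMB, hM⟩, hmax⟩ := Set.exists_max_image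
    {M : Subgroup G | M ≤ B ∧ ¬ B ≤ centralizer ((F ⊓ centralizer (M : Set G) : Subgroup G) : Set G)}
    (fun M => Nat.card M) (Set.toFinite _) ⟨⊥, bot_le, fun h => hB1 (by
      rw [inf_centralizer_bot] at h
      have : B ≤ F := fun b hb => s.core_cent ⟨hBH hb, h hb⟩
      rw [← inf_eq_left.mpr this]
      exact (Coprime.disjoint_of_coprime hcopF).eq_bot)⟩
  have hMne : M ≠ B := fun h => hM (h ▸ le_centralizer_iff.mp inf_le_right)
  set K := F ⊓ centralizer (M : Set G) with hK
  have hnM : ∀ X : Subgroup G, X ≤ B → B ≤ normalizer (X : Set G) := fun X hX x hx =>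
    centralizer_le_normalizer _ fun y hy => hBc y (hX hy) x hx
  have hBK : B ≤ normalizer (K : Set G) := le_normalizer_inf (hBH.trans s.core_norm) (le_normalizer_centralizer (hnM M hMB))
  have hfix : ∀ a ∈ B, a ∉ M → K ⊓ centralizer {a} ≤ centralizer (B : Set G) := by
    intro a ha haM
    by_contra hnle
    have hle := hmax (M ⊔ zpowers a) ⟨sup_le hMB (zpowers_le.mpr ha), fun h => hnle ?_⟩
    · exact haM ((eq_of_le_of_card_ge (le_sup_left : M ≤ M ⊔ zpowers a) hle).ge (mem_sup_right (mem_zpowers a)))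
    · intro x hx
      have hx' : x ∈ F ⊓ centralizer ((M ⊔ zpowers a : Subgroup G) : Set G) := by
        refine ⟨hx.1.1, ?_⟩
        intro z hz
        have hle : M ⊔ zpowers a ≤ centralizer ({x} : Set G) := sup_le
          (fun m hm => mem_centralizer_singleton_iff.2 (hx.1.2 m hm))
          (zpowers_le.2 (mem_centralizer_singleton_iff.2 (mem_centralizer_singleton_iff.1 hx.2).symm))
        exact mem_centralizer_singleton_iff.1 (hle hz)
      intro b hb
      exact (h hb x hx').symm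
  obtain ⟨a, haB, haM⟩ : ∃ a ∈ B, M ⊔ zpowers a = B := by
    by_contra hc
    refine hM (le_centralizer_iff.mp ?_)
    exact le_of_centralizers hBc hMB hBK (le_centralizer_iff.mp inf_le_right)
      (hcopF.coprime_dvd_right (Subgroup.card_dvd_of_le inf_le_left)) hc hfix
  have hanM : a ∉ M := fun h => hMne (by rw [← haM, sup_eq_left.mpr (zpowers_le.mpr h)])
  obtain ⟨k, hk⟩ := hBp ⟨a, haB⟩
  have hex : ∃ i, a ^ 2 ^ i ∈ M := ⟨k, by
    have := congrArg Subtype.val hk
    push_cast at this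
    rw [this]; exact one_mem _⟩
  obtain ⟨j, hjdef⟩ : ∃ j, j = Nat.find hex := ⟨_, rfl⟩
  have hj : a ^ 2 ^ j ∈ M := hjdef ▸ Nat.find_spec hex
  obtain ⟨i, rfl⟩ : ∃ i, j = i + 1 := ⟨j - 1, by
    rcases Nat.eq_zero_or_pos j with h | h
    · rw [h, pow_zero, pow_one] at hj; exact absurd hj hanM
    · omega⟩
  have hb : a ^ 2 ^ i ∉ M := Nat.find_min hex (by omega)
  have hcardB : Nat.card B ≤ 2 ^ (i + 1) * Nat.card M := by
    have h := GlaubermanReplacement.card_sup_mul_card_inf (A := zpowers a) (B := M)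
      ((zpowers_le.mpr haB).trans (hnM M hMB))
    rw [sup_comm, haM] at h
    have hord : Nat.card (zpowers a) ≤ 2 ^ (i + 1) * Nat.card (zpowers a ⊓ M : Subgroup G) := by
      have h1 : orderOf (a ^ 2 ^ (i + 1)) ≤ Nat.card (zpowers a ⊓ M : Subgroup G) := by
        rw [← Nat.card_zpowers]
        exact Subgroup.card_le_of_le (zpowers_le.mpr ⟨pow_mem (mem_zpowers a) _, hj⟩)
      rw [Nat.card_zpowers]
      have h2 : orderOf a ∣ 2 ^ (i + 1) * orderOf (a ^ 2 ^ (i + 1)) :=
        orderOf_dvd_of_pow_eq_one (by rw [pow_mul, pow_orderOf_eq_one])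
      exact (Nat.le_of_dvd (Nat.mul_pos (by positivity) (orderOf_pos _)) h2).trans (Nat.mul_le_mul_left _ h1)
    have hpos := Nat.card_pos (α := (zpowers a ⊓ M : Subgroup G))
    nlinarith
  set W := V ⊓ centralizer (M : Set G) with hW
  haveI : IsMulCommutative W := (ThompsonSubgroup.IsElementaryAbelian.mono s.elem inf_le_left).1
  have hW2 : ∀ w ∈ W, w ^ 2 = 1 := fun w hw => (ThompsonSubgroup.isElementaryAbelian_iff.mp s.elem).2 w hw.1
  have haW : a ∈ normalizer (W : Set G) :=
    le_normalizer_inf (hBH.trans s.norm) (le_normalizer_centralizer (hnM M hMB)) haB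
  set f := delta W haW
  have hn0 : ∀ w, f^[2 ^ (i + 1)] w = 1 := fun w => Subtype.ext (by
    rw [delta_iterate_two_pow W hW2 haW]
    show a ^ 2 ^ (i + 1) * w * (a ^ 2 ^ (i + 1))⁻¹ * (w : G)⁻¹ = 1
    rw [w.2.2 _ hj, mul_inv_cancel_right, mul_inv_cancel])
  have hr : ∃ w, f^[2 ^ i] w ≠ 1 := by
    have hb' : ¬ B ≤ centralizer ((F ⊓ centralizer ((M : Subgroup G) : Set G) : Subgroup G) : Set G) := hM
    set A' := M ⊔ zpowers (a ^ 2 ^ i) with hA'
    have hA'B : A' ≤ B := sup_le hMB (zpowers_le.mpr (pow_mem haB _))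
    have hbc : a ^ 2 ^ i ∉ centralizer ((F ⊓ centralizer (M : Set G) : Subgroup G) : Set G) := by
      intro h
      refine hM (le_centralizer_iff.mp fun x hx => hfix _ (pow_mem haB _) hb ⟨hx, ?_⟩)
      exact mem_centralizer_singleton_iff.2 (h x hx)
    have hne := fixed_ne s (hA'B.trans hBH) (fun x hx y hy => hBc x (hA'B hx) y (hA'B hy)) (hBp.to_le hA'B)
      (B := M) le_sup_left (mem_sup_right (mem_zpowers _)) hbc
    obtain ⟨w, hw, hwn⟩ := SetLike.not_le_iff_exists.mp hne
    refine ⟨⟨w, hw⟩, fun h => hwn ?_⟩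
    have h' := congrArg Subtype.val h
    rw [delta_iterate_two_pow W hW2 haW] at h'
    change a ^ 2 ^ i * w * (a ^ 2 ^ i)⁻¹ * w⁻¹ = 1 at h'
    have hc : a ^ 2 ^ i * w = w * a ^ 2 ^ i := mul_inv_eq_iff_eq_mul.mp (mul_inv_eq_one.mp h')
    have hle : A' ≤ centralizer ({w} : Set G) := sup_le
      (fun m hm => mem_centralizer_singleton_iff.2 (hw.2 m hm)) (zpowers_le.2 (mem_centralizer_singleton_iff.2 hc))
    exact fun z hz => mem_centralizer_singleton_iff.1 (hle hz)
  have hrange := two_pow_le_card_range (2 ^ i) f _ hn0 hr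
  have hker : f.ker.map W.subtype = V ⊓ centralizer (B : Set G) := by
    ext v
    constructor
    · rintro ⟨w, hw, rfl⟩
      refine ⟨w.2.1, ?_⟩
      have hle : B ≤ centralizer ({(w : G)} : Set G) := haM ▸ sup_le
        (fun m hm => mem_centralizer_singleton_iff.2 (w.2.2 m hm))
        (zpowers_le.2 (mem_centralizer_singleton_iff.2 ((delta_eq_one W haW w).1 hw)))
      exact fun z hz => mem_centralizer_singleton_iff.1 (hle hz)
    · rintro ⟨hv, hvB⟩
      exact ⟨⟨v, hv, fun m hm => hvB m (hMB hm)⟩, (delta_eq_one W haW _).2 (hvB a haB), rfl⟩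
  have hWcard : Nat.card f.range * Nat.card ↥(V ⊓ centralizer (B : Set G)) = Nat.card W := by
    rw [← hker, card_subtype, ← index_ker, mul_comm, card_mul_index]
  have hexp : i + 1 ≤ 2 ^ i := Nat.lt_two_pow_self
  have hle1 : weight V B ≤ weight V M := by
    calc weight V B ≤ 2 ^ (i + 1) * Nat.card M * Nat.card ↥(V ⊓ centralizer (B : Set G)) := Nat.mul_le_mul_right _ hcardB
      _ = Nat.card M * (2 ^ (i + 1) * Nat.card ↥(V ⊓ centralizer (B : Set G))) := by ring
      _ ≤ Nat.card M * (Nat.card f.range * Nat.card ↥(V ⊓ centralizer (B : Set G))) :=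
          Nat.mul_le_mul_left _ (Nat.mul_le_mul_right _ ((Nat.pow_le_pow_right (by norm_num) hexp).trans hrange))
      _ = weight V M := by rw [hWcard]; rfl
  refine ⟨hle1.trans (hIH hMB hMne).1, fun heq => ?_⟩
  obtain ⟨P, hP, hPB⟩ : ∃ P, Point 2 V H P ∧ P ≤ B := by
    have hwM : weight V M = Nat.card V := le_antisymm (hIH hMB hMne).1 (heq ▸ hle1)
    by_cases hM0 : M = ⊥
    · subst hM0
      have hB2 : Nat.card B ≤ 2 ^ (i + 1) := by simpa using hcardB
      have hWV : W = V := inf_centralizer_bot V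
      have hup : 2 ^ (2 ^ i) ≤ Nat.card B := by
        refine hrange.trans ((Nat.mul_le_mul_right_iff (Nat.card_pos (α := ↥(V ⊓ centralizer (B : Set G))))).1 ?_)
        rw [hWcard, hWV]
        exact heq.ge
      have hi2 : 2 ^ i ≤ i + 1 := (Nat.pow_le_pow_iff_right (by norm_num)).1 (hup.trans hB2)
      have hzB : zpowers a = B := by rw [← haM, bot_sup_eq]
      have hord : orderOf a = Nat.card B := by rw [← hzB, Nat.card_zpowers]
      have hi1 : i = 1 := by
        match i, hi2, hj, hb, hB2 with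
        | 0, _, hj, _, _ =>
          exfalso
          refine hel (hzB ▸ ThompsonSubgroup.isElementaryAbelian_zpowers ?_)
          simpa using hj
        | 1, _, _, _, _ => rfl
        | i + 2, h, _, _, _ =>
          exfalso
          have := Nat.lt_two_pow_self (n := i)
          rw [pow_add] at h
          omega
      subst hi1
      have hb2 : a ^ 2 ≠ 1 := fun h => hb (by simpa using h)
      have h4 : (a ^ 2) ^ 2 = 1 := by rw [← pow_mul]; simpa using hj
      have hcP : Nat.card (zpowers (a ^ 2)) = 2 := by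
        rw [Nat.card_zpowers]; exact orderOf_eq_prime h4 hb2
      refine ⟨zpowers (a ^ 2), ⟨zpowers_le.mpr (hBH (pow_mem haB 2)), hcP, ?_⟩, zpowers_le.mpr (pow_mem haB 2)⟩
      have hzE : IsElementaryAbelian 2 (zpowers (a ^ 2)) := ThompsonSubgroup.isElementaryAbelian_zpowers h4
      refine le_antisymm (weight_le s (zpowers_le.mpr (hBH (pow_mem haB 2))) hzE) ?_
      rw [hcP]
      have hCe : (f.comp f).ker.map W.subtype = V ⊓ centralizer ((zpowers (a ^ 2) : Subgroup G) : Set G) := by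
        have hval : ∀ w : W, (f.comp f) w = 1 ↔ a ^ 2 * (w : G) = w * a ^ 2 := fun w => by
          rw [Subtype.ext_iff]
          show (f^[2 ^ 1] w : G) = 1 ↔ _
          rw [delta_iterate_two_pow W hW2 haW, pow_one, mul_inv_eq_one, mul_inv_eq_iff_eq_mul]
        ext v
        constructor
        · rintro ⟨w, hw, rfl⟩
          refine ⟨w.2.1, ?_⟩
          rintro z hz
          have hle : zpowers (a ^ 2) ≤ centralizer ({(w : G)} : Set G) :=
            zpowers_le.2 (mem_centralizer_singleton_iff.2 ((hval w).1 hw))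
          exact mem_centralizer_singleton_iff.1 (hle hz)
        · rintro ⟨hv, hvB⟩
          exact ⟨⟨v, hWV.ge hv⟩, (hval _).2 (hvB _ (mem_zpowers _)), rfl⟩
      rw [← hCe, card_subtype]
      have hle4 : Nat.card f.range ≤ 4 := by
        refine le_trans ?_ (hB2.trans (by norm_num))
        refine (Nat.mul_le_mul_right_iff (Nat.card_pos (α := ↥(V ⊓ centralizer (B : Set G))))).1 ?_
        rw [hWcard, hWV]
        exact heq.ge
      have hlt : (f.comp f).range < f.range := by
        refine lt_of_le_of_ne ?_ fun h => ?_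
        · rintro _ ⟨w, rfl⟩; exact ⟨f w, rfl⟩
        · obtain ⟨w, hw⟩ := hr
          have h3 : ∀ w, ∃ u, f w = f (f u) := fun w => by
            obtain ⟨u, hu⟩ := h.ge ⟨w, rfl⟩
            exact ⟨u, hu.symm⟩
          refine hw ?_
          show f (f w) = 1
          obtain ⟨u, hu⟩ := h3 w
          obtain ⟨u', hu'⟩ := h3 u
          rw [hu, hu']
          exact hn0 u'
      obtain ⟨q, hq⟩ := Subgroup.card_dvd_of_le hlt.le
      have hq2 : 2 ≤ q := by
        by_contra hc
        refine hlt.ne (eq_of_le_of_card_ge hlt.le ?_)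
        rw [hq]
        calc _ ≤ Nat.card (f.comp f).range * 1 := Nat.mul_le_mul_left _ (by omega)
          _ = _ := mul_one _
      have hc2 : Nat.card (f.comp f).range ≤ 2 := by nlinarith
      have hsplit : Nat.card (f.comp f).range * Nat.card (f.comp f).ker = Nat.card V := by
        rw [← index_ker, mul_comm, card_mul_index, hWV]
      rw [← hsplit]
      exact Nat.mul_le_mul_right _ hc2
    · have hMe := (hIH hMB hMne).2 hwM
      obtain ⟨P, hPM, hPc, hPF, -⟩ := exists_point s (B := ⊥) (hMB.trans hBH) hMe hwM (fun h => hM0 (le_bot_iff.mp h))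
      exact ⟨P, ⟨hPM.trans (hMB.trans hBH), hPc, hPF⟩, hPM.trans hMB⟩
  obtain ⟨B', hB'B, hB'ne, hw, hle⟩ := reduce s hBH hBc hP hPB
  have hB'e := (hIH hB'B hB'ne).2 (le_antisymm (hIH hB'B hB'ne).1 (heq ▸ hw))
  refine absurd (ThompsonSubgroup.IsElementaryAbelian.mono (ThompsonSubgroup.IsElementaryAbelian.sup hP.elem hB'e ?_) hle) hel
  exact fun x hx y hy => hBc y (hB'B hy) x (hPB hx)

end Cfsg.Agent.GroupStructure3.ThompsonS3
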